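import Groth.Prelude.Def_EtModD2
import Groth.Agent.LocConst45.ModConst
import Groth.Agent.LocConst45.ModPullTriv
import Groth.Agent.ModCons93.Basic
import Mathlib.Algebra.Category.ModuleCat.Monoidal.Closed
import Mathlib.CategoryTheory.Sites.Point.Monoidal
import Mathlib.CategoryTheory.Sites.Point.Conservative

/-!
Stalks and inverse images of tensor products of sheaves of modules on small etale sites.
-/

set_option autoImplicit false
set_option backward.isDefEq.respectTransparency.types false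
universe u

open CategoryTheory CategoryTheory.Limits AlgebraicGeometry Opposite MonoidalCategory
open Groth.Agent.Unr55.EtSh (Pt hom ptUp ptDown ptUp_ptDown ptDown_ptUp point_over)
open Groth.Agent.LocConst45.Mod
open scoped TensorProduct

namespace Groth.Agent.EtModTens45

variable {Λ : Type (u + 1)} [CommRing Λ] {X Y : Scheme.{u}}

instance preservesFiltered_tensorLeft (M : ModuleCat.{u + 1} Λ) :
    PreservesFilteredColimitsOfSize.{u, u} (tensorLeft M) := ⟨fun _ _ _ => inferInstance⟩

instance preservesFiltered_tensorRight (M : ModuleCat.{u + 1} Λ) :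
    PreservesFilteredColimitsOfSize.{u, u} (tensorRight M) :=
  ⟨fun _ _ _ => preservesColimitsOfShape_of_natIso (BraidedCategory.tensorLeftIsoTensorRight M)⟩

instance hasColimits_small : HasColimitsOfSize.{u, u} (ModuleCat.{u + 1} Λ) :=
  hasColimitsOfSizeShrink.{u, u, u + 1, u + 1} _

/-- The tensor product. -/
noncomputable abbrev tens (F G : EtModW.Mod Λ X) : EtModW.Mod Λ X := ((EtModD.tensorBi Λ X).obj F).obj G

/-- The presheaf tensor product. -/
noncomputable abbrev ptens (F G : EtModW.Mod Λ X) : X.Etaleᵒᵖ ⥤ ModuleCat.{u + 1} Λ := F.obj ⊗ G.obj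

/-- Sections `s ⊗ t` of the tensor product. -/
noncomputable def tmulSec (F G : EtModW.Mod Λ X) (U : X.Etale) :
    EtModW.sect Λ F U ⊗[Λ] EtModW.sect Λ G U →ₗ[Λ] EtModW.sect Λ (tens F G) U :=
  ((toSheafify X.smallEtaleTopology (ptens F G)).app (op U)).hom

theorem map_tmulSec (F G : EtModW.Mod Λ X) {U V : X.Etale} (g : V ⟶ U) (z : EtModW.sect Λ F U ⊗[Λ] EtModW.sect Λ G U) :
    (tens F G).obj.map g.op (tmulSec F G U z) =
      tmulSec F G V (TensorProduct.map (F.obj.map g.op).hom (G.obj.map g.op).hom z) :=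
  (NatTrans.naturality_apply (toSheafify X.smallEtaleTopology (ptens F G)) g.op z).symm

/-- A section with all germs zero is zero. -/
theorem sect_eq_zero_of_germ {F : EtModW.Mod Λ X} {U : X.Etale} (σ : EtModW.sect Λ F U)
    (h : ∀ (K : Type u) [Field K] [IsSepClosed K] (η : Spec (CommRingCat.of K) ⟶ X) (t : Pt η U),
      germ η F t σ = 0) : σ = 0 := by
  let S : Sieve U :=
    { arrows := fun V g => F.obj.map g.op σ = 0
      downward_closed := fun {V W g} hg k => by
        change F.obj.map (k ≫ g).op σ = 0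
        rw [map_comp', hg, map_zero] }
  have hS : S ∈ X.smallEtaleTopology U := Unr55.EtSh.mem_topology fun x => by
    obtain ⟨K, _, _, η, t, ht⟩ := point_over U x
    obtain ⟨V, g, t', h1, h2⟩ := (germ_eq_zero_iff η F t σ).1 (h K η t)
    refine ⟨V, g, hom η t' default, h2, ?_⟩
    rw [← ht, ← h1]
    rfl
  have hF := Presheaf.isSheaf_comp_of_isSheaf X.smallEtaleTopology F.obj (forget (ModuleCat.{u + 1} Λ)) F.property
  rw [isSheaf_iff_isSheaf_of_type] at hF
  exact (hF S hS).isSeparatedFor.ext fun V g hg => hg.trans (map_zero (F.obj.map g.op).hom).symm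

/-- Maps of sheaves of modules bijective on stalks are isomorphisms. -/
theorem isIso_of_stalks {F G : EtModW.Mod Λ X} (φ : F ⟶ G)
    (h : ∀ (K : Type u) [Field K] [IsSepClosed K] (η : Spec (CommRingCat.of K) ⟶ X),
      Function.Bijective ((EtModW.stalk Λ η).map φ)) : IsIso φ := by
  have hinj : ∀ U, Function.Injective (φ.hom.app (op U)) := fun U => by
    refine (injective_iff_map_eq_zero (φ.hom.app (op U)).hom).2 fun σ hσ => ?_
    refine sect_eq_zero_of_germ σ fun K _ _ η t => (h K η).1 ?_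
    rw [stalk_map_germ, map_zero]
    exact (congrArg (germ η G t) hσ).trans (map_zero _)
  have : Mono φ.hom := by
    rw [NatTrans.mono_iff_mono_app]
    exact fun U => (ModuleCat.mono_iff_injective _).2 (hinj U.unop)
  refine isIso_of_locallySurjective φ ((sheafToPresheaf X.smallEtaleTopology _).mono_of_mono_map this)
    fun W τ x => ?_
  obtain ⟨K, _, _, η, t, ht⟩ := point_over W x
  obtain ⟨s, hs⟩ := (h K η).2 (germ η G t τ)
  obtain ⟨V, t', σ, rfl⟩ := exists_germ_eq η F s
  rw [stalk_map_germ] at hs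
  obtain ⟨⟨V₂, w⟩, a, b, -⟩ := IsCofiltered.toIsCofilteredOrEmpty.cone_objs
    (C := (Scheme.pointSmallEtale η).fiber.Elements) ⟨W, t⟩ ⟨V, t'⟩
  have e : germ η G w (G.obj.map a.val.op τ - φ.hom.app (op V₂) (F.obj.map b.val.op σ)) = 0 := by
    rw [map_sub, germ_map, a.property, sub_eq_zero]
    have : φ.hom.app (op V₂) (F.obj.map b.val.op σ) = G.obj.map b.val.op (φ.hom.app (op V) σ) :=
      NatTrans.naturality_apply φ.hom b.val.op σ
    rw [this, germ_map, b.property, hs]
  obtain ⟨W', g, w', h1, h2⟩ := (germ_eq_zero_iff η G w _).1 e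
  rw [map_sub, sub_eq_zero] at h2
  refine ⟨W', g ≫ a.val, hom η w' default, F.obj.map g.op (F.obj.map b.val.op σ), ?_, ?_⟩
  · exact ((congrArg (fun q => hom η q default)
        (congrArg ((Scheme.pointSmallEtale η).fiber.map a.val) h1)).trans
        (congrArg (fun q => hom η q default) a.property)).trans ht
  · rw [map_comp', h2]
    exact NatTrans.naturality_apply φ.hom g.op _

section stalk

variable {Ω : Type u} [Field Ω] [IsSepClosed Ω] (ξ : Spec (CommRingCat.of Ω) ⟶ X)

/-- The stalk of a tensor product. -/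
noncomputable def stalkTensIso (F G : EtModW.Mod Λ X) :
    (EtModW.stalk Λ ξ).obj (tens F G) ≅ (EtModW.stalk Λ ξ).obj F ⊗ (EtModW.stalk Λ ξ).obj G :=
  ((Scheme.pointSmallEtale ξ).presheafToSheafCompSheafFiberIso (ModuleCat.{u + 1} Λ)).app (ptens F G) ≪≫
    (Functor.Monoidal.μIso (Scheme.pointSmallEtale ξ).presheafFiber F.obj G.obj).symm

/-- The stalk of a tensor product, as a linear equivalence. -/
noncomputable def stalkTensEquiv (F G : EtModW.Mod Λ X) :
    ((EtModW.stalk Λ ξ).obj (tens F G) : ModuleCat.{u + 1} Λ) ≃ₗ[Λ]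
      ((EtModW.stalk Λ ξ).obj F : ModuleCat.{u + 1} Λ) ⊗[Λ] ((EtModW.stalk Λ ξ).obj G : ModuleCat.{u + 1} Λ) :=
  (stalkTensIso ξ F G).toLinearEquiv

theorem stalkTensEquiv_germ (F G : EtModW.Mod Λ X) {U : X.Etale} (t : Pt ξ U)
    (z : EtModW.sect Λ F U ⊗[Λ] EtModW.sect Λ G U) :
    stalkTensEquiv ξ F G (germ ξ (tens F G) t (tmulSec F G U z)) =
      TensorProduct.map (germ ξ F t) (germ ξ G t) z := by
  let Φ := Scheme.pointSmallEtale ξ
  have h1 : (Φ.presheafToSheafCompSheafFiberIso (ModuleCat.{u + 1} Λ)).inv.app (ptens F G) =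
      Φ.presheafFiber.map (toSheafify X.smallEtaleTopology (ptens F G)) := rfl
  have h2 : germ ξ (tens F G) t (tmulSec F G U z) =
      (Φ.presheafToSheafCompSheafFiberIso (ModuleCat.{u + 1} Λ)).inv.app (ptens F G)
        (Φ.toPresheafFiber U t (ptens F G) z) := by
    rw [h1]
    exact (Φ.toPresheafFiber_naturality_apply (toSheafify X.smallEtaleTopology (ptens F G)) U t z).symm
  rw [h2]
  refine Eq.trans ?_ (ConcreteCategory.congr_hom (Φ.toPresheafFiber_δ U t F.obj G.obj) z)
  exact congrArg (Functor.OplaxMonoidal.δ Φ.presheafFiber F.obj G.obj)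
    (ConcreteCategory.congr_hom ((Φ.presheafToSheafCompSheafFiberIso (ModuleCat.{u + 1} Λ)).inv_hom_id_app (ptens F G)) _)

theorem germ_tmulSec_span (F G : EtModW.Mod Λ X) (a : ((EtModW.stalk Λ ξ).obj (tens F G) : ModuleCat.{u + 1} Λ)) :
    ∃ (U : X.Etale) (t : Pt ξ U) (z : EtModW.sect Λ F U ⊗[Λ] EtModW.sect Λ G U),
      germ ξ (tens F G) t (tmulSec F G U z) = a := by
  let Φ := Scheme.pointSmallEtale ξ
  obtain ⟨U, t, z, hz⟩ := Φ.toPresheafFiber_jointly_surjective (P := ptens F G)
    ((Φ.presheafToSheafCompSheafFiberIso (ModuleCat.{u + 1} Λ)).hom.app (ptens F G) a)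
  refine ⟨U, t, z, (stalkTensEquiv ξ F G).injective ?_⟩
  rw [stalkTensEquiv_germ]
  refine (ConcreteCategory.congr_hom (Φ.toPresheafFiber_δ U t F.obj G.obj) z).symm.trans ?_
  exact congrArg (Functor.OplaxMonoidal.δ Φ.presheafFiber F.obj G.obj) hz

end stalk

section triv

variable {F G : EtModW.Mod Λ X} {U : X.Etale} {M N : Type (u + 1)} [AddCommGroup M] [Module Λ M]
  [AddCommGroup N] [Module Λ N] {σ : M →ₗ[Λ] EtModW.sect Λ F U} {τ : N →ₗ[Λ] EtModW.sect Λ G U}

theorem bijective_germ_triv (h : IsTriv F U σ) {K : Type u} [Field K] [IsSepClosed K]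
    (η : Spec (CommRingCat.of K) ⟶ X) (q : Pt η U) :
    Function.Bijective ((germ η F q).comp σ) := by
  refine ⟨(injective_iff_map_eq_zero _).2 fun m hm => ?_, fun a => ?_⟩
  · obtain ⟨V, g, t', -, hV⟩ := (germ_eq_zero_iff _ F _ _).1 hm
    exact h.inj V g m ⟨hom _ t' default⟩ hV
  · obtain ⟨V₁, t₁, σ₁, rfl⟩ := exists_germ_eq η F a
    obtain ⟨⟨V₂, t₂⟩, c, d, -⟩ := IsCofiltered.toIsCofilteredOrEmpty.cone_objs
      (C := (Scheme.pointSmallEtale η).fiber.Elements) ⟨U, q⟩ ⟨V₁, t₁⟩
    obtain ⟨V₃, g, v, m, hv, hm⟩ := h.surj V₂ c.val (F.obj.map d.val.op σ₁) (hom _ t₂ default)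
    obtain ⟨t₃, ht₃⟩ := LocConst45.exists_pt_over g t₂ v hv
    refine ⟨m, ?_⟩
    have h1 := congrArg (germ η F t₃) hm
    rw [germ_map, germ_map, ht₃, map_comp', germ_map, ht₃, germ_map, c.property, d.property] at h1
    exact h1.symm

theorem isTriv_tens (hσ : IsTriv F U σ) (hτ : IsTriv G U τ) :
    IsTriv (tens F G) U ((tmulSec F G U).comp (TensorProduct.map σ τ)) := by
  refine ⟨fun W a z ⟨w⟩ hz => ?_, fun W a s x => ?_⟩
  · obtain ⟨K, _, _, η, t, -⟩ := point_over W w
    let q := (Scheme.pointSmallEtale η).fiber.map a t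
    have h0 : germ η (tens F G) q (tmulSec F G U (TensorProduct.map σ τ z)) = 0 := by
      rw [← germ_map]
      exact (congrArg (germ η (tens F G) t) hz).trans (map_zero _)
    have h1 := congrArg (stalkTensEquiv η F G) h0
    rw [stalkTensEquiv_germ, map_zero] at h1
    let eM := LinearEquiv.ofBijective _ (bijective_germ_triv hσ η q)
    let eN := LinearEquiv.ofBijective _ (bijective_germ_triv hτ η q)
    refine (TensorProduct.congr eM eN).injective ?_
    rw [map_zero]
    refine Eq.trans ?_ h1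
    rw [← LinearMap.comp_apply, ← TensorProduct.map_comp]
    rfl
  · obtain ⟨V, g, v, ⟨p, hp⟩, -, hv⟩ := (EtCore45.mem_et _).1
      (Presheaf.imageSieve_mem X.smallEtaleTopology (toSheafify X.smallEtaleTopology (ptens F G)) (U := op W) s) x
    suffices ∀ p : EtModW.sect Λ F V ⊗[Λ] EtModW.sect Λ G V, ∀ v : V.left,
        ∃ (V' : X.Etale) (g' : V' ⟶ V) (v' : V'.left) (z : M ⊗[Λ] N), g'.left v' = v ∧
          TensorProduct.map (F.obj.map g'.op).hom (G.obj.map g'.op).hom p =
            TensorProduct.map (F.obj.map (g' ≫ g ≫ a).op).hom (G.obj.map (g' ≫ g ≫ a).op).hom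
              (TensorProduct.map σ τ z) by
      obtain ⟨V', g', v', z, hv', hz⟩ := this p v
      refine ⟨V', g' ≫ g, v', z, ?_, ?_⟩
      · rw [← hv, ← hv']; rfl
      · have hp' : tmulSec F G V p = (tens F G).obj.map g.op s := hp
        rw [map_comp', ← hp', map_tmulSec, hz, Category.assoc]
        exact (map_tmulSec F G _ _).symm
    intro p v
    obtain ⟨S, hS⟩ := TensorProduct.exists_finset (R := Λ) p
    obtain ⟨V₁, g₁, v₁, m, hv₁, hm⟩ := hσ.exists_values (g ≫ a) (fun i : S => i.1.1) v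
    obtain ⟨V₂, g₂, v₂, n, hv₂, hn⟩ := hτ.exists_values (g₁ ≫ g ≫ a) (fun i : S => G.obj.map g₁.op i.1.2) v₁
    refine ⟨V₂, g₂ ≫ g₁, v₂, ∑ i : S, m i ⊗ₜ n i, ?_, ?_⟩
    · rw [← hv₁, ← hv₂]; rfl
    · rw [hS, ← Finset.sum_coe_sort S, map_sum, map_sum, map_sum]
      refine Finset.sum_congr rfl fun i _ => ?_
      rw [TensorProduct.map_tmul, TensorProduct.map_tmul, TensorProduct.map_tmul]
      have e1 : F.obj.map (g₂ ≫ g₁).op i.1.1 = F.obj.map ((g₂ ≫ g₁) ≫ g ≫ a).op (σ (m i)) := by
        rw [Category.assoc, map_comp' F g₂ g₁, hm i, ← map_comp']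
      have e2 : G.obj.map (g₂ ≫ g₁).op i.1.2 = G.obj.map ((g₂ ≫ g₁) ≫ g ≫ a).op (τ (n i)) := by
        rw [Category.assoc, map_comp' G g₂ g₁, hn i]
      exact congrArg₂ (fun x y => x ⊗ₜ[Λ] y) e1 e2

theorem isFTLocConst_tens {F G : EtModW.Mod Λ X} (hF : EtModW.IsFTLocConst Λ F) (hG : EtModW.IsFTLocConst Λ G) :
    EtModW.IsFTLocConst Λ (tens F G) := by
  refine (ftLocConst_iff _).2 fun x => ?_
  obtain ⟨U₁, u₁, M, _, _, _, σ, hu₁, hσ⟩ := (ftLocConst_iff F).1 hF x
  obtain ⟨U₂, u₂, N, _, _, _, τ, hu₂, hτ⟩ := (ftLocConst_iff G).1 hG x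
  obtain ⟨W, a, b, w, ha, -⟩ := Unr55.LC.exists_overlap (U := U₁) (U' := U₂) (hu₁.trans hu₂.symm)
  exact ⟨W, w, M ⊗[Λ] N, inferInstance, inferInstance, inferInstance, _,
    by rw [← hom_left_comp a w, ha, hu₁], isTriv_tens (hσ.restrict a) (hτ.restrict b)⟩

end triv

section pull

variable (f : X ⟶ Y) (F G : EtModW.Mod Λ Y)

/-- The unit on sections. -/
noncomputable def unitSec (U : Y.Etale) :
    EtModW.sect Λ F U →ₗ[Λ] EtModW.sect Λ ((EtModW.pull Λ f).obj F) ((EtCoh.bc f).obj U) :=
  (((modAdj Λ f).unit.app F).hom.app (op U)).hom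

theorem unitSec_map {U V : Y.Etale} (k : V ⟶ U) (a : EtModW.sect Λ F U) :
    unitSec f F V (F.obj.map k.op a) =
      ((EtModW.pull Λ f).obj F).obj.map ((EtCoh.bc f).map k).op (unitSec f F U a) :=
  NatTrans.naturality_apply ((modAdj Λ f).unit.app F).hom k.op a

theorem map_unitSec {U V : Y.Etale} (k : V ⟶ U) (z : EtModW.sect Λ F U ⊗[Λ] EtModW.sect Λ G U) :
    TensorProduct.map (unitSec f F V) (unitSec f G V) (TensorProduct.map (F.obj.map k.op).hom (G.obj.map k.op).hom z) =
      TensorProduct.map (((EtModW.pull Λ f).obj F).obj.map ((EtCoh.bc f).map k).op).hom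
        (((EtModW.pull Λ f).obj G).obj.map ((EtCoh.bc f).map k).op).hom
        (TensorProduct.map (unitSec f F U) (unitSec f G U) z) := by
  refine LinearMap.congr_fun (f := (TensorProduct.map (unitSec f F V) (unitSec f G V)).comp
      (TensorProduct.map (F.obj.map k.op).hom (G.obj.map k.op).hom))
    (g := (TensorProduct.map (((EtModW.pull Λ f).obj F).obj.map ((EtCoh.bc f).map k).op).hom
        (((EtModW.pull Λ f).obj G).obj.map ((EtCoh.bc f).map k).op).hom).comp
        (TensorProduct.map (unitSec f F U) (unitSec f G U))) (TensorProduct.ext' fun a b => ?_) z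
  exact congrArg₂ (fun x y => x ⊗ₜ[Λ] y) (unitSec_map f F k a) (unitSec_map f G k b)

/-- The tensor product of the units, as a map of presheaves. -/
noncomputable def pullTensPre : ptens F G ⟶
    ((EtModW.push Λ f).obj (tens ((EtModW.pull Λ f).obj F) ((EtModW.pull Λ f).obj G))).obj where
  app U := ModuleCat.ofHom
    ((tmulSec ((EtModW.pull Λ f).obj F) ((EtModW.pull Λ f).obj G) ((EtCoh.bc f).obj U.unop)).comp
      (TensorProduct.map (unitSec f F U.unop) (unitSec f G U.unop)))
  naturality U V k := ConcreteCategory.hom_ext _ _ fun z =>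
    (congrArg (tmulSec _ _ _) (map_unitSec f F G k.unop z)).trans (map_tmulSec _ _ ((EtCoh.bc f).map k.unop) _).symm

/-- The comparison map of inverse images and tensor products. -/
noncomputable def pullTens : (EtModW.pull Λ f).obj (tens F G) ⟶
    tens ((EtModW.pull Λ f).obj F) ((EtModW.pull Λ f).obj G) :=
  ((modAdj Λ f).homEquiv _ _).symm ⟨sheafifyLift Y.smallEtaleTopology (pullTensPre f F G)
    ((EtModW.push Λ f).obj _).property⟩

theorem pullTens_sec {U : Y.Etale} (z : EtModW.sect Λ F U ⊗[Λ] EtModW.sect Λ G U) :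
    (pullTens f F G).hom.app (op ((EtCoh.bc f).obj U))
      (((modAdj Λ f).unit.app (tens F G)).hom.app (op U) (tmulSec F G U z)) =
    tmulSec _ _ ((EtCoh.bc f).obj U)
      (TensorProduct.map (unitSec f F U) (unitSec f G U) z) := by
  let φ : tens F G ⟶ (EtModW.push Λ f).obj _ :=
    ⟨sheafifyLift Y.smallEtaleTopology (pullTensPre f F G) ((EtModW.push Λ f).obj _).property⟩
  have h : (modAdj Λ f).unit.app (tens F G) ≫ (EtModW.push Λ f).map (pullTens f F G) = φ :=
    ((modAdj Λ f).homEquiv_unit _ _ _).symm.trans (Equiv.apply_symm_apply _ _)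
  have h' : φ.hom.app (op U) (tmulSec F G U z) = (pullTensPre f F G).app (op U) z :=
    ConcreteCategory.congr_hom (NatTrans.congr_app
      (toSheafify_sheafifyLift Y.smallEtaleTopology (pullTensPre f F G) ((EtModW.push Λ f).obj _).property) (op U)) z
  exact (congrArg (fun k : tens F G ⟶ _ => k.hom.app (op U) (tmulSec F G U z)) h).trans h'

theorem bijective_stalk_pullTens {Ω : Type u} [Field Ω] [IsSepClosed Ω] (η : Spec (CommRingCat.of Ω) ⟶ X) :
    Function.Bijective ((EtModW.stalk Λ η).map (pullTens f F G)) := by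
  let S := stalkTensEquiv η ((EtModW.pull Λ f).obj F) ((EtModW.pull Λ f).obj G)
  let eF := LinearEquiv.ofBijective (theta f η F).hom (theta_bijective f η F)
  let eG := LinearEquiv.ofBijective (theta f η G).hom (theta_bijective f η G)
  have key : ∀ a, S ((EtModW.stalk Λ η).map (pullTens f F G) (theta f η (tens F G) a)) =
      TensorProduct.congr eF eG (stalkTensEquiv (η ≫ f) F G a) := by
    intro a
    obtain ⟨U, t, z, rfl⟩ := germ_tmulSec_span (η ≫ f) F G a
    rw [theta_germ, stalk_map_germ, pullTens_sec, stalkTensEquiv_germ, stalkTensEquiv_germ]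
    refine LinearMap.congr_fun (f := (TensorProduct.map (germ η ((EtModW.pull Λ f).obj F) (ptUp f η t))
        (germ η ((EtModW.pull Λ f).obj G) (ptUp f η t))).comp (TensorProduct.map (unitSec f F U) (unitSec f G U)))
      (g := (TensorProduct.congr eF eG).toLinearMap.comp (TensorProduct.map (germ (η ≫ f) F t) (germ (η ≫ f) G t)))
      (TensorProduct.ext' fun a b => ?_) z
    exact congrArg₂ (fun x y => x ⊗ₜ[Λ] y) (theta_germ f η F t a).symm (theta_germ f η G t b).symm
  have hb : Function.Bijective (fun a => S ((EtModW.stalk Λ η).map (pullTens f F G) (theta f η (tens F G) a))) := by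
    simp only [key]
    exact (TensorProduct.congr eF eG).bijective.comp (stalkTensEquiv (η ≫ f) F G).bijective
  have h1 : Function.Bijective (fun b => S ((EtModW.stalk Λ η).map (pullTens f F G) b)) :=
    (Function.Bijective.of_comp_iff _ (theta_bijective f η (tens F G))).1 hb
  exact (Function.Bijective.of_comp_iff' S.bijective _).1 h1

theorem isIso_pullTens : IsIso (pullTens f F G) :=
  isIso_of_stalks _ fun _ _ _ η => bijective_stalk_pullTens f F G η

theorem isFTLocConst_pull_tens (hF : EtModW.IsFTLocConst Λ ((EtModW.pull Λ f).obj F))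
    (hG : EtModW.IsFTLocConst Λ ((EtModW.pull Λ f).obj G)) :
    EtModW.IsFTLocConst Λ ((EtModW.pull Λ f).obj (tens F G)) :=
  have := isIso_pullTens f F G
  ModCons93.ftlc_of_iso (asIso (pullTens f F G)).symm (isFTLocConst_tens hF hG)

end pull

end Groth.Agent.EtModTens45
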